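import Mathlib

set_option autoImplicit false

/-! Elementary identities for abstract Shintani descent (twisted conjugacy). -/

namespace Cfsg.Agent.Lib.Shintani

variable {X : Type*} [Group X] (σ : MulAut X)

theorem mem_fixed {τ : MulAut X} {x : X} :
    x ∈ (MulEquiv.toMonoidHom τ).eqLocus (MonoidHom.id X) ↔ τ x = x := Iff.rfl

theorem comm_pow (n : ℕ) (x : X) : σ ((σ ^ n) x) = (σ ^ n) (σ x) := by
  rw [← MulAut.mul_apply, ← MulAut.mul_apply, ← pow_succ', pow_succ]

theorem pow_fixed {x : X} (h : σ x = x) (n : ℕ) : (σ ^ n) x = x := by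
  induction n with
  | zero => simp
  | succ n ih => rw [pow_succ, MulAut.mul_apply, h, ih]

/-- The norm of `a σ(a)⁻¹` telescopes. -/
theorem norm_eq {g a : X} (ha : g = a * (σ a)⁻¹) (d : ℕ) :
    ((List.range d).map (fun i => (σ ^ i) g)).prod = a * ((σ ^ d) a)⁻¹ := by
  induction d with
  | zero => simp
  | succ d ih =>
    rw [List.range_succ, List.map_append, List.prod_append, ih, List.map_singleton,
      List.prod_singleton, ha, map_mul, map_inv, pow_succ, MulAut.mul_apply]
    group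

theorem norm_fixed {g : X} {e : ℕ} (hg : (σ ^ e) g = g) (d : ℕ) :
    (σ ^ e) ((List.range d).map (fun i => (σ ^ i) g)).prod
      = ((List.range d).map (fun i => (σ ^ i) g)).prod := by
  rw [map_list_prod, List.map_map]
  congr 1
  apply List.map_congr_left
  intro i _
  simp only [Function.comp_apply]
  rw [← MulAut.mul_apply, ← pow_add, add_comm, pow_add, MulAut.mul_apply, hg]

/-- The Shintani image is fixed by `σ`. -/
theorem image_fixed {g a : X} {e : ℕ} (hg : (σ ^ e) g = g) (ha : g = a * (σ a)⁻¹) :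
    σ (((σ ^ e) a)⁻¹ * a) = ((σ ^ e) a)⁻¹ * a := by
  have hs : σ a = g⁻¹ * a := by rw [ha]; group
  rw [map_mul, map_inv, comm_pow, hs, map_mul, map_inv, hg]
  group

theorem pow_mul_apply {g a : X} {e : ℕ} (hg : (σ ^ e) g = g) (ha : g = a * (σ a)⁻¹) (n : ℕ) :
    (((σ ^ e) ^ n) a)⁻¹ * a = (((σ ^ e) a)⁻¹ * a) ^ n := by
  induction n with
  | zero => simp
  | succ n ih =>
    have hx := pow_fixed σ (image_fixed σ hg ha) e
    rw [pow_succ' (σ ^ e), MulAut.mul_apply]
    have : ((σ ^ e) ^ n) a = a * ((((σ ^ e) a)⁻¹ * a) ^ n)⁻¹ := by rw [← ih]; group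
    rw [this, map_mul (σ ^ e), map_inv (σ ^ e), map_pow (σ ^ e), hx]
    rw [pow_succ]
    group

end Cfsg.Agent.Lib.Shintani
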